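import Mathlib
import Groth.Agent.AffLim.Constructible
import Groth.Agent.AffLim.Stalks
import Groth.Agent.S9206
import Groth.Agent.SpectralLib.Basic

/-!
# Rational points of fibres and cofiltered affine limits

`HasPt f₀ g y`: the fibre over `y` of the base change of `f₀` along `g` has a rational point.
-/

set_option autoImplicit false
set_option backward.isDefEq.respectTransparency false
set_option backward.defeqAttrib.useBackward true
set_option linter.style.haveILetI false

open CategoryTheory CategoryTheory.Limits AlgebraicGeometry TopologicalSpace Topology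

universe u

noncomputable section

namespace Groth.Agent.RatPtLim

section Algebra

/-- A map of a finitely presented algebra into the field generated by fractions of the image of `A`
spreads out to a quotient of a localization of `A` by a finitely generated ideal. -/
theorem exists_spread {R A C κ : Type u} [CommRing R] [CommRing A] [Algebra R A] [CommRing C]
    [Algebra R C] [Algebra.FinitePresentation R C] [Field κ] [Algebra R κ] (θ : A →ₐ[R] κ)
    (hθ : ∀ x : κ, ∃ b a, θ a ≠ 0 ∧ x * θ a = θ b) (φ : C →ₐ[R] κ) :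
    ∃ (a : A) (I : Ideal (Localization.Away a)), I.FG ∧
      (∃ θ' : (Localization.Away a ⧸ I) →+* κ, θ'.comp (algebraMap A _) = θ.toRingHom) ∧
      Nonempty (C →ₐ[R] (Localization.Away a ⧸ I)) := by
  classical
  obtain ⟨n, π, hπ, hker⟩ := Algebra.FinitePresentation.out (R := R) (A := C)
  choose b c hc hbc using fun l : Fin n => hθ (φ (π (MvPolynomial.X l)))
  let a : A := ∏ l, c l
  have ha : IsUnit (θ a) := by
    rw [isUnit_iff_ne_zero, map_prod]
    exact Finset.prod_ne_zero_iff.mpr fun l _ => hc l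
  let θa : Localization.Away a →ₐ[R] κ :=
    { IsLocalization.Away.lift a (g := θ.toRingHom) ha with
      commutes' := fun r => by
        simp [IsScalarTower.algebraMap_apply R A (Localization.Away a)] }
  have hθa : ∀ x : A, θa (algebraMap A _ x) = θ x := fun x =>
    IsLocalization.Away.lift_eq a ha x
  have hu : ∀ l, IsUnit (algebraMap A (Localization.Away a) (c l)) := fun l =>
    isUnit_of_dvd_unit (map_dvd _ (Finset.dvd_prod_of_mem c (Finset.mem_univ l)))
      (IsLocalization.Away.algebraMap_isUnit a)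
  let z : Fin n → Localization.Away a := fun l => algebraMap A _ (b l) * ↑((hu l).unit⁻¹)
  have hz : ∀ l, θa (z l) = φ (π (MvPolynomial.X l)) := fun l => by
    refine mul_right_cancel₀ (hc l) ?_
    rw [hbc, ← hθa (c l), ← map_mul, mul_assoc, IsUnit.val_inv_mul, mul_one, hθa]
  let Ψ : MvPolynomial (Fin n) R →ₐ[R] Localization.Away a := MvPolynomial.aeval z
  have hΨ : θa.comp Ψ = φ.comp π := MvPolynomial.algHom_ext fun l => by simp [Ψ, hz]
  let I : Ideal (Localization.Away a) := (RingHom.ker π.toRingHom).map Ψ.toRingHom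
  have hI : I ≤ RingHom.ker θa.toRingHom := by
    rw [Ideal.map_le_iff_le_comap]
    intro x hx
    rw [Ideal.mem_comap, RingHom.mem_ker]
    exact (DFunLike.congr_fun hΨ x).trans
      ((congrArg φ (show π x = 0 from hx)).trans (map_zero φ))
  refine ⟨a, I, hker.map _, ⟨Ideal.Quotient.lift I θa.toRingHom fun x hx => hI hx, ?_⟩, ?_⟩
  · ext x
    exact hθa x
  · let q : (MvPolynomial (Fin n) R ⧸ RingHom.ker π) →ₐ[R] (Localization.Away a ⧸ I) :=
      Ideal.Quotient.liftₐ _ ((Ideal.Quotient.mkₐ R I).comp Ψ) fun x hx =>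
        Ideal.Quotient.eq_zero_iff_mem.mpr (Ideal.mem_map_of_mem _ hx)
    exact ⟨q.comp (Ideal.quotientKerAlgEquivOfSurjective hπ).symm.toAlgHom⟩

/-- A map of a finite type algebra into a field factors through a subfield containing the base and
the values of generators. -/
theorem exists_factor {R C K L : Type u} [CommRing R] [CommRing C] [Algebra R C] [CommRing K]
    [CommRing L] [Nontrivial L] (j : K →+* L) (hj : Function.Injective j) (ρ : R →+* K)
    (φ : C →+* L) (hφ : φ.comp (algebraMap R C) = j.comp ρ) (T : Finset C)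
    (hT : Algebra.adjoin R (T : Set C) = ⊤) (hr : ∀ x ∈ T, φ x ∈ j.range) :
    ∃ ψ : C →+* K, j.comp ψ = φ ∧ ψ.comp (algebraMap R C) = ρ := by
  have hmem : ∀ x, φ x ∈ j.range := fun x => by
    have hx : x ∈ Algebra.adjoin R (T : Set C) := hT ▸ Algebra.mem_top
    induction hx using Algebra.adjoin_induction with
    | mem y hy => exact hr y hy
    | algebraMap r => exact ⟨ρ r, (DFunLike.congr_fun hφ r).symm⟩
    | add y z _ _ hy hz => rw [map_add]; exact add_mem hy hz
    | mul y z _ _ hy hz => rw [map_mul]; exact mul_mem hy hz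
  let e : K ≃+* j.range := RingEquiv.ofBijective j.rangeRestrict
    ⟨fun x y h => hj (congrArg Subtype.val h), j.rangeRestrict_surjective⟩
  have h : j.comp (e.symm.toRingHom.comp (φ.codRestrict j.range hmem)) = φ := by
    ext x
    exact congrArg Subtype.val (e.apply_symm_apply _)
  refine ⟨_, h, RingHom.ext fun r => hj ?_⟩
  rw [← RingHom.comp_apply, ← RingHom.comp_assoc, h, hφ]
  rfl

end Algebra

variable {X₀ Y₀ : Scheme.{u}} (f₀ : X₀ ⟶ Y₀)

lemma residueFieldCongr_cancel {X : Scheme.{u}} {x z : X} (h h' : x = z) (b : X.residueField z) :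
    (X.residueFieldCongr h).hom ((X.residueFieldCongr h').inv b) = b := by
  subst h
  simp

/-- The fibre of `f₀` over the point `y` of `E` has a `κ(y)`-rational point. -/
def HasPt {E : Scheme.{u}} (g : E ⟶ Y₀) (y : E) : Prop :=
  ∃ s : Spec (E.residueField y) ⟶ X₀, s ≫ f₀ = E.fromSpecResidueField y ≫ g

theorem hasPt_of_comp {E E' : Scheme.{u}} (φ : E' ⟶ E) (g : E ⟶ Y₀) (g' : E' ⟶ Y₀)
    (h : φ ≫ g = g') (y : E') (hy : HasPt f₀ g (φ y)) : HasPt f₀ g' y := by
  obtain ⟨s, hs⟩ := hy
  refine ⟨Spec.map (φ.residueFieldMap y) ≫ s, ?_⟩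
  rw [Category.assoc, hs, Scheme.Hom.SpecMap_residueFieldMap_fromSpecResidueField_assoc, h]

theorem hasPt_of_point {X Y : Scheme.{u}} {f : X ⟶ Y} {pY : Y ⟶ Y₀} {pX : X ⟶ X₀}
    (w : pX ≫ f₀ = f ≫ pY) (x : X) (hx : Function.Bijective (f.residueFieldMap x)) :
    HasPt f₀ pY (f x) := by
  haveI : IsIso (f.residueFieldMap x) := (ConcreteCategory.isIso_iff_bijective _).mpr hx
  refine ⟨Spec.map (inv (f.residueFieldMap x)) ≫ X.fromSpecResidueField x ≫ pX, ?_⟩
  rw [Category.assoc, Category.assoc, w,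
    ← Scheme.Hom.SpecMap_residueFieldMap_fromSpecResidueField_assoc, ← Spec.map_comp_assoc,
    IsIso.hom_inv_id, Spec.map_id, Category.id_comp]

theorem exists_point_of_hasPt {X Y : Scheme.{u}} {f : X ⟶ Y} {pY : Y ⟶ Y₀} {pX : X ⟶ X₀}
    (h : IsPullback pX f f₀ pY) (y : Y) (hy : HasPt f₀ pY y) :
    ∃ x : X, f x = y ∧ Function.Bijective (f.residueFieldMap x) := by
  obtain ⟨s, hs⟩ := hy
  let t : Spec (Y.residueField y) ⟶ X := h.lift s (Y.fromSpecResidueField y) hs
  let p := Scheme.SpecToEquivOfField (Y.residueField y) X t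
  let x : X := p.1
  let σ : X.residueField x ⟶ Y.residueField y := p.2
  have ht : Spec.map σ ≫ X.fromSpecResidueField x = t :=
    (Scheme.SpecToEquivOfField (Y.residueField y) X).left_inv t
  have hfx : f x = y := by
    have h1 : t (IsLocalRing.closedPoint (Y.residueField y)) = x := by
      rw [← ht, Scheme.Hom.comp_apply, Scheme.fromSpecResidueField_apply]
    rw [← h1, ← Scheme.Hom.comp_apply, h.lift_snd, Scheme.fromSpecResidueField_apply]
  refine ⟨x, hfx, (f.residueFieldMap x).hom.injective, fun b => ?_⟩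
  have hcomp : Spec.map (f.residueFieldMap x ≫ σ) =
      Spec.map (Y.residueFieldCongr hfx).hom := by
    rw [← cancel_mono (Y.fromSpecResidueField (f x)), Spec.map_comp, Category.assoc,
      Scheme.Hom.SpecMap_residueFieldMap_fromSpecResidueField, ← Category.assoc, ht,
      Scheme.residueFieldCongr_fromSpecResidueField]
    exact h.lift_snd _ _ _
  refine ⟨(Y.residueFieldCongr hfx).inv (σ b), σ.hom.injective ?_⟩
  rw [← CommRingCat.comp_apply, Spec.map_injective hcomp, ← CommRingCat.comp_apply,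
    Iso.inv_hom_id]
  rfl

/-- The ring map giving a point of `E` lying over an affine open of the target. -/
def rho {E : Scheme.{u}} (g : E ⟶ Y₀) (W : Y₀.Opens) (y : E) (hy : g y ∈ W) :
    Γ(Y₀, W) ⟶ E.residueField y :=
  Y₀.evaluation W (g y) hy ≫ g.residueFieldMap y

lemma fromSpecResidueField_eq {E : Scheme.{u}} {V : E.Opens} (hV : IsAffineOpen V) (y : E)
    (hy : y ∈ V) :
    E.fromSpecResidueField y = Spec.map (E.evaluation V y hy) ≫ hV.fromSpec := by
  rw [← Scheme.germ_residue, Spec.map_comp, Category.assoc, Scheme.fromSpecResidueField,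
    ← hV.fromSpecStalk_eq_fromSpecStalk hy]
  rfl

lemma fromSpecResidueField_comp {E : Scheme.{u}} (g : E ⟶ Y₀) {W : Y₀.Opens} (hW : IsAffineOpen W)
    (y : E) (hy : g y ∈ W) :
    E.fromSpecResidueField y ≫ g = Spec.map (rho g W y hy) ≫ hW.fromSpec := by
  rw [← Scheme.Hom.SpecMap_residueFieldMap_fromSpecResidueField, fromSpecResidueField_eq hW _ hy,
    rho, Spec.map_comp, Category.assoc]

/-- Affine data of a rational point. -/
theorem exists_affine_data {E : Scheme.{u}} (g : E ⟶ Y₀) (y : E)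
    (s : Spec (E.residueField y) ⟶ X₀) (hs : s ≫ f₀ = E.fromSpecResidueField y ≫ g) :
    ∃ (W : Y₀.Opens) (U : X₀.Opens) (hW : IsAffineOpen W) (hU : IsAffineOpen U)
      (hUW : U ≤ f₀ ⁻¹ᵁ W) (hy : g y ∈ W) (φ : Γ(X₀, U) ⟶ E.residueField y),
      Spec.map φ ≫ hU.fromSpec = s ∧ f₀.appLE W U hUW ≫ φ = rho g W y hy := by
  let pt := IsLocalRing.closedPoint (E.residueField y)
  have hpt : f₀ (s pt) = g y := by
    rw [← Scheme.Hom.comp_apply, hs, Scheme.Hom.comp_apply, Scheme.fromSpecResidueField_apply]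
  obtain ⟨_, ⟨W : Y₀.Opens, hW, rfl⟩, hyW, -⟩ :=
    Y₀.isBasis_affineOpens.exists_subset_of_mem_open (Set.mem_univ (g y)) isOpen_univ
  obtain ⟨_, ⟨U : X₀.Opens, hU, rfl⟩, hxU, hUW⟩ :=
    X₀.isBasis_affineOpens.exists_subset_of_mem_open (show s pt ∈ f₀ ⁻¹ᵁ W by
      show f₀ (s pt) ∈ W; rwa [hpt]) (f₀ ⁻¹ᵁ W).2
  have hrange : Set.range s ⊆ Set.range hU.fromSpec := by
    rw [hU.range_fromSpec]
    rintro _ ⟨q, rfl⟩
    rwa [Subsingleton.elim q pt]
  obtain ⟨φ, hφ⟩ := Spec.map_surjective (IsOpenImmersion.lift hU.fromSpec s hrange)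
  have hφs : Spec.map φ ≫ hU.fromSpec = s := by rw [hφ, IsOpenImmersion.lift_fac]
  refine ⟨W, U, hW, hU, hUW, hyW, φ, hφs, Spec.map_injective ?_⟩
  rw [← cancel_mono hW.fromSpec, Spec.map_comp, Category.assoc,
    IsAffineOpen.SpecMap_appLE_fromSpec f₀ hW hU hUW, ← Category.assoc, hφs, hs,
    fromSpecResidueField_comp g hW y hyW]

/-- A rational point spreads out to a constructible neighbourhood. -/
theorem exists_constructible [LocallyOfFinitePresentation f₀] {E : Scheme.{u}} [CompactSpace E]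
    [QuasiSeparatedSpace E] (g : E ⟶ Y₀) (y : E) (h : HasPt f₀ g y) :
    ∃ C : Set E, IsConstructible C ∧ y ∈ C ∧ ∀ z ∈ C, HasPt f₀ g z := by
  obtain ⟨s, hs⟩ := h
  obtain ⟨W, U, hW, hU, hUW, hy, φ, -, hφ⟩ := exists_affine_data f₀ g y s hs
  obtain ⟨_, ⟨V : E.Opens, hV, rfl⟩, hyV, hVW⟩ :=
    E.isBasis_affineOpens.exists_subset_of_mem_open (show y ∈ g ⁻¹ᵁ W from hy) (g ⁻¹ᵁ W).2
  letI algA : Algebra Γ(Y₀, W) Γ(E, V) := (g.appLE W V hVW).hom.toAlgebra
  letI algC : Algebra Γ(Y₀, W) Γ(X₀, U) := (f₀.appLE W U hUW).hom.toAlgebra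
  haveI : Algebra.FinitePresentation Γ(Y₀, W) Γ(X₀, U) :=
    f₀.finitePresentation_appLE hW hU hUW
  letI algκ : Algebra Γ(Y₀, W) (E.residueField y) := (rho g W y hy).hom.toAlgebra
  have hrho : g.appLE W V hVW ≫ E.evaluation V y hyV = rho g W y hy := by
    apply Spec.map_injective
    rw [← cancel_mono hW.fromSpec, Spec.map_comp, Category.assoc,
      IsAffineOpen.SpecMap_appLE_fromSpec g hW hV hVW, ← Category.assoc,
      ← fromSpecResidueField_eq hV y hyV, fromSpecResidueField_comp g hW y hy]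
  let θ : Γ(E, V) →ₐ[Γ(Y₀, W)] E.residueField y :=
    { (E.evaluation V y hyV).hom with
      commutes' := fun r => ConcreteCategory.congr_hom hrho r }
  have hθ : ∀ x : E.residueField y, ∃ b a, θ a ≠ 0 ∧ x * θ a = θ b := fun x => by
    letI := TopCat.Presheaf.algebra_section_stalk E.presheaf (⟨y, hyV⟩ : V)
    haveI := hV.isLocalization_stalk ⟨y, hyV⟩
    obtain ⟨x, rfl⟩ := E.residue_surjective y x
    obtain ⟨⟨b, a⟩, hba⟩ := IsLocalization.surj (hV.primeIdealOf ⟨y, hyV⟩).asIdeal.primeCompl x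
    refine ⟨b, a.1, ?_, ?_⟩
    · show E.residue y (algebraMap Γ(E, V) (E.presheaf.stalk y) a.1) ≠ 0
      exact ((IsLocalization.map_units (E.presheaf.stalk y) a).map (E.residue y).hom).ne_zero
    · show E.residue y x * E.residue y (algebraMap Γ(E, V) (E.presheaf.stalk y) a.1) =
        E.residue y (algebraMap Γ(E, V) (E.presheaf.stalk y) b)
      rw [← map_mul, hba]
  obtain ⟨a, I, hI, ⟨θ', hθ'⟩, ⟨ψ⟩⟩ := exists_spread θ hθ
    ({ φ.hom with commutes' := fun r => ConcreteCategory.congr_hom hφ r } :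
      Γ(X₀, U) →ₐ[Γ(Y₀, W)] E.residueField y)
  let P := Spec (.of (Localization.Away a ⧸ I))
  let j₁ : P ⟶ Spec (.of (Localization.Away a)) := Spec.map (CommRingCat.ofHom (Ideal.Quotient.mk I))
  let j₂ : Spec (.of (Localization.Away a)) ⟶ Spec Γ(E, V) :=
    Spec.map (CommRingCat.ofHom (algebraMap Γ(E, V) (Localization.Away a)))
  haveI : IsClosedImmersion j₁ :=
    IsClosedImmersion.spec_of_surjective _ Ideal.Quotient.mk_surjective
  haveI : IsOpenImmersion j₂ := IsOpenImmersion.of_isLocalization a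
  let ι : P ⟶ E := j₁ ≫ j₂ ≫ hV.fromSpec
  haveI : IsPreimmersion ι := inferInstance
  haveI : LocallyOfFinitePresentation ι := by
    have : LocallyOfFinitePresentation j₁ := by
      rw [HasRingHomProperty.Spec_iff (P := @LocallyOfFinitePresentation)]
      exact RingHom.FinitePresentation.of_surjective _ Ideal.Quotient.mk_surjective
        (by rw [CommRingCat.hom_ofHom, Ideal.mk_ker]; exact hI)
    infer_instance
  have hι : ι ≫ g = Spec.map (CommRingCat.ofHom
      (algebraMap Γ(Y₀, W) (Localization.Away a ⧸ I))) ≫ hW.fromSpec := by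
    simp only [ι, j₁, j₂, Category.assoc, ← IsAffineOpen.SpecMap_appLE_fromSpec g hW hV hVW,
      ← Spec.map_comp_assoc]
    rfl
  refine ⟨Set.range ι, ?_, ⟨Spec.map (CommRingCat.ofHom θ') default, ?_⟩, ?_⟩
  · haveI : CompactSpace P := inferInstanceAs (CompactSpace (PrimeSpectrum _))
    haveI : QuasiCompact ι :=
      have : QuasiCompact (ι ≫ E.toSpecΓ) := inferInstance
      QuasiCompact.of_comp ι E.toSpecΓ
    rw [← Set.image_univ]
    exact ι.isConstructible_image IsConstructible.univ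
  · have : Spec.map (CommRingCat.ofHom θ') ≫ ι = E.fromSpecResidueField y := by
      simp only [ι, j₁, j₂, ← Spec.map_comp_assoc, fromSpecResidueField_eq hV y hyV]
      congr 2
      ext x
      exact DFunLike.congr_fun hθ' x
    rw [← Scheme.Hom.comp_apply, this]
    exact E.fromSpecResidueField_apply y _
  · rintro _ ⟨z, rfl⟩
    let s' : P ⟶ X₀ := Spec.map (CommRingCat.ofHom ψ.toRingHom) ≫ hU.fromSpec
    have hs' : s' ≫ f₀ = ι ≫ g := by
      rw [hι, Category.assoc, ← IsAffineOpen.SpecMap_appLE_fromSpec f₀ hW hU hUW,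
        ← Spec.map_comp_assoc]
      congr 2
      ext r
      exact ψ.commutes r
    have hbij : Function.Bijective (ι.residueFieldMap z) := by
      refine ⟨(ι.residueFieldMap z).hom.injective, fun b => ?_⟩
      obtain ⟨b', rfl⟩ := P.residue_surjective z b
      obtain ⟨c, rfl⟩ := ι.stalkMap_surjective z b'
      exact ⟨E.residue (ι z) c, ConcreteCategory.congr_hom (Scheme.residue_residueFieldMap ι z) c⟩
    exact hasPt_of_point f₀ hs' z hbij

variable {J : Type u} [SmallCategory J] [IsCofiltered J] (E : J ⥤ Scheme.{u}) (e : Cone E)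
  [∀ {i j} (f : i ⟶ j), IsAffineHom (E.map f)]

/-- A rational point over a point of the limit comes from a stage. -/
theorem exists_stage_point (he : IsLimit e) [LocallyOfFiniteType f₀] (g : ∀ k, E.obj k ⟶ Y₀)
    (hg : ∀ {k l : J} (a : k ⟶ l), E.map a ≫ g l = g k) (g' : e.pt ⟶ Y₀)
    (hg' : ∀ k, e.π.app k ≫ g k = g') (y : e.pt) (h : HasPt f₀ g' y) :
    ∃ k, HasPt f₀ (g k) (e.π.app k y) := by
  classical
  haveI hE : ∀ (i j : J) (f : i ⟶ j), IsAffineHom (E.map f) := fun _ _ f => inferInstance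
  obtain ⟨s, hs⟩ := h
  obtain ⟨W, U, hW, hU, hUW, hy, φ, -, hφ⟩ := exists_affine_data f₀ g' y s hs
  letI algC : Algebra Γ(Y₀, W) Γ(X₀, U) := (f₀.appLE W U hUW).hom.toAlgebra
  haveI : Algebra.FiniteType Γ(Y₀, W) Γ(X₀, U) := f₀.finiteType_appLE hW hU hUW
  obtain ⟨T, hT⟩ := Algebra.FiniteType.out (R := Γ(Y₀, W)) (A := Γ(X₀, U))
  choose i b hb using fun x => Groth.Agent.S9206.result E e he y (φ x)
  obtain ⟨i₁⟩ := IsCofiltered.nonempty (C := J)
  obtain ⟨k, hk⟩ := IsCofiltered.inf_objs_exists (insert i₁ (T.image i))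
  have hy' : g k (e.π.app k y) ∈ W := by
    rw [← Scheme.Hom.comp_apply, hg']; exact hy
  have hρ : rho g' W y hy = rho (g k) W (e.π.app k y) hy' ≫ (e.π.app k).residueFieldMap y := by
    apply Spec.map_injective
    rw [← cancel_mono hW.fromSpec, Spec.map_comp, Category.assoc,
      ← fromSpecResidueField_comp g' hW y hy, ← fromSpecResidueField_comp (g k) hW _ hy',
      Scheme.Hom.SpecMap_residueFieldMap_fromSpecResidueField_assoc, hg']
    rfl
  obtain ⟨ψ, -, hψ⟩ := exists_factor ((e.π.app k).residueFieldMap y).hom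
    (RingHom.injective _) (rho (g k) W (e.π.app k y) hy').hom φ.hom
    (by rw [RingHom.algebraMap_toAlgebra, ← CommRingCat.hom_comp, hφ, hρ]; rfl) T hT
    (fun x hx => by
      obtain ⟨a⟩ := hk (Finset.mem_insert_of_mem (Finset.mem_image_of_mem i hx))
      have hpt : E.map a (e.π.app k y) = e.π.app (i x) y := by
        rw [← Scheme.Hom.comp_apply, e.w]
        rfl
      have := Scheme.Hom.residueFieldMap_congr (e.w a) y
      rw [Scheme.residueFieldMap_comp] at this
      refine ⟨(E.map a).residueFieldMap (e.π.app k y)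
        (((E.obj (i x)).residueFieldCongr hpt).inv (b x)), ?_⟩
      refine (ConcreteCategory.congr_hom this _).trans (Eq.trans ?_ (hb x))
      exact congrArg ((e.π.app (i x)).residueFieldMap y).hom (residueFieldCongr_cancel _ hpt (b x)))
  refine ⟨k, Spec.map (CommRingCat.ofHom ψ) ≫ hU.fromSpec, ?_⟩
  rw [Category.assoc, ← IsAffineOpen.SpecMap_appLE_fromSpec f₀ hW hU hUW, ← Spec.map_comp_assoc,
    fromSpecResidueField_comp (g k) hW _ hy']
  congr 2
  exact CommRingCat.hom_ext hψ

/-- If all points of the limit have rational points in their fibres then so do all points of some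
stage. -/
theorem exists_stage_all (he : IsLimit e) [LocallyOfFinitePresentation f₀]
    [∀ k, CompactSpace (E.obj k)] [∀ k, QuasiSeparatedSpace (E.obj k)] (g : ∀ k, E.obj k ⟶ Y₀)
    (hg : ∀ {k l : J} (a : k ⟶ l), E.map a ≫ g l = g k) (g' : e.pt ⟶ Y₀)
    (hg' : ∀ k, e.π.app k ≫ g k = g') (h : ∀ y : e.pt, HasPt f₀ g' y) :
    ∃ k, ∀ y : E.obj k, HasPt f₀ (g k) y := by
  classical
  have key : ∀ y : e.pt, ∃ (k : J) (C : Set (E.obj k)), IsConstructible C ∧ e.π.app k y ∈ C ∧
      ∀ z ∈ C, HasPt f₀ (g k) z := fun y => by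
    obtain ⟨k, hk⟩ := exists_stage_point f₀ E e he g hg g' hg' y (h y)
    exact ⟨k, exists_constructible f₀ (g k) _ hk⟩
  choose k C hC hyC hgood using key
  haveI : CompactSpace e.pt := Scheme.compactSpace_of_isLimit E e he
  obtain ⟨j₁⟩ := IsCofiltered.nonempty (C := J)
  haveI : IsAffineHom (e.π.app j₁) := isAffineHom_π_app E e he j₁
  haveI : QuasiSeparatedSpace ↥e.pt := quasiSeparatedSpace_of_quasiSeparated (e.π.app j₁)
  have hopen : ∀ s : Set e.pt, IsConstructible s → IsOpen[constructibleTopology e.pt] s := by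
    intro s hs
    refine AffLim.isConstructible_induction (fun A B hA hAr hB hBr => ?_) (fun s t hs ht => ?_) hs
    · exact @IsOpen.inter e.pt (constructibleTopology e.pt) _ _
        (SpectralLib.isOpen_C_of_compactOpen hA hAr.isCompact)
        ((@isOpen_compl_iff e.pt B (constructibleTopology e.pt)).mpr
          (SpectralLib.isClosed_C_of_compactOpen hB hBr.isCompact))
    · exact @IsOpen.union e.pt _ _ (constructibleTopology e.pt) hs ht
  have hcpt : @IsCompact e.pt (constructibleTopology e.pt) Set.univ :=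
    @isCompact_univ e.pt (constructibleTopology e.pt) SpectralLib.compactSpace_C
  obtain ⟨t, ht⟩ := @IsCompact.elim_finite_subcover e.pt (constructibleTopology e.pt) _ _ hcpt
    (fun y => e.π.app (k y) ⁻¹' C y)
    (fun y => hopen _ (haveI : IsAffineHom (e.π.app (k y)) := isAffineHom_π_app E e he _
                       (e.π.app (k y)).isConstructible_preimage (hC y)))
    (fun y _ => Set.mem_iUnion.2 ⟨y, hyC y⟩)
  obtain ⟨j, hj⟩ := IsCofiltered.inf_objs_exists (insert j₁ (t.image k))
  replace hj : ∀ y ∈ t, Nonempty (j ⟶ k y) := fun y hy =>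
    hj (Finset.mem_insert_of_mem (Finset.mem_image_of_mem k hy))
  let a : ∀ y : t, j ⟶ k y.1 := fun y => (hj y.1 y.2).some
  let Z : Set (E.obj j) := ⋃ y : t, E.map (a y) ⁻¹' C y.1
  have hZ : IsConstructible Z :=
    IsConstructible.iUnion fun y => (E.map (a y)).isConstructible_preimage (hC y.1)
  obtain ⟨l, b, hl⟩ := AffLim.exists_preimage_eq_empty E e he hZ.compl (by
    rw [Set.preimage_compl, Set.compl_empty_iff]
    refine Set.eq_univ_of_forall fun y => ?_
    obtain ⟨y₁, hy₁, hyy₁⟩ := Set.mem_iUnion₂.1 (ht (Set.mem_univ y))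
    refine Set.mem_iUnion.2 ⟨⟨y₁, hy₁⟩, ?_⟩
    rw [Set.mem_preimage, ← Scheme.Hom.comp_apply, e.w]
    exact hyy₁)
  refine ⟨l, fun y => hasPt_of_comp f₀ (E.map b) (g j) (g l) (hg b) y ?_⟩
  have : E.map b y ∈ Z := by
    by_contra hn
    exact (Set.ext_iff.mp hl y).mp hn
  obtain ⟨y₁, hy₁⟩ := Set.mem_iUnion.1 this
  exact hasPt_of_comp f₀ (E.map (a y₁)) (g (k y₁.1)) (g j) (hg (a y₁)) _ (hgood y₁.1 _ hy₁)

end Groth.Agent.RatPtLim

end
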